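import Groth.Agent.Lib.InjHull.Matlis
import Groth.Agent.Lib.InjHull.Torsion
import Groth.Agent.Lib.Cohen.Structure
import Groth.Agent.S0307
import Groth.Prelude.Def_Wider
import Mathlib.LinearAlgebra.Finsupp.LSum
import Mathlib.Data.Finsupp.ToDFinsupp

/-!
# Torsion modules with a connection over power series in characteristic zero
-/

set_option autoImplicit false
universe u

open IsLocalRing InjHull Groth.Agent.InjHullLib

noncomputable section

namespace Groth.Agent.DerivTors27

section Decompose

variable {A : Type u} [CommRing A] [IsLocalRing A] [IsNoetherianRing A]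

/-- An injective torsion module over a local ring is a sum of copies of the hull of the residue field. -/
theorem exists_finsupp_equiv (E : Type u) [AddCommGroup E] [Module A E] (e : ResidueField A →ₗ[A] E)
    (he : IsInjectiveHull e) (I : Type u) [AddCommGroup I] [Module A I] (hI : Module.Injective A I)
    (ht : LocCoh.IsPowerTorsion (maximalIdeal A) I) : ∃ J : Type u, Nonempty (I ≃ₗ[A] (J →₀ E)) := by
  classical
  obtain ⟨ι, N, hint, hN⟩ := S0307.result A I hI
  have key : ∀ i, Nonempty (N i ≃ₗ[A] E) := fun i => by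
    haveI := (hN i).1.1
    obtain ⟨x, hx⟩ := exists_ne (0 : N i)
    have hex : ∃ k, ∀ a ∈ maximalIdeal A ^ k, a • x = 0 := by
      obtain ⟨k, hk⟩ := ht x.1
      exact ⟨k, fun a ha => Subtype.ext (hk a ha)⟩
    obtain ⟨s, hs0, hsm⟩ : ∃ s : N i, s ≠ 0 ∧ ∀ a ∈ maximalIdeal A, a • s = 0 := by
      cases hk : Nat.find hex with
      | zero =>
        refine absurd ?_ hx
        have := Nat.find_spec hex 1 (by rw [hk, pow_zero, Ideal.one_eq_top]; trivial)
        rwa [one_smul] at this
      | succ k =>
        have hnot := Nat.find_min hex (show k < Nat.find hex by omega)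
        push Not at hnot
        obtain ⟨a, ha, hax⟩ := hnot
        refine ⟨a • x, hax, fun b hb => ?_⟩
        rw [smul_smul, mul_comm]
        refine Nat.find_spec hex _ ?_
        rw [hk, pow_succ]
        exact Ideal.mul_mem_mul ha hb
    have hle : maximalIdeal A ≤ LinearMap.ker (LinearMap.toSpanSingleton A (N i) s) := fun a ha => hsm a ha
    let j : ResidueField A →ₗ[A] N i := (maximalIdeal A).liftQ (LinearMap.toSpanSingleton A (N i) s) hle
    have hj : Function.Injective j := by
      refine LinearMap.ker_eq_bot.1 (Submodule.ker_liftQ_eq_bot _ _ _ fun a ha => ?_)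
      by_contra hu
      exact hs0 ((IsUnit.smul_eq_zero (IsLocalRing.notMem_maximalIdeal.1 hu)).1 ha)
    obtain ⟨α, hα, -⟩ := exists_extension_injective he.toIsEssentialInj j hj (hN i).2
    obtain ⟨C, hC⟩ := exists_isCompl_of_injective (LinearMap.range α)
      (injective_range_of_injective α hα (isInjectiveHull_injective he))
    haveI : Nontrivial E := he.toIsEssentialInj.injective.nontrivial
    rcases (hN i).1.2 _ _ hC with h | h
    · obtain ⟨y, hy⟩ := exists_ne (0 : E)
      exact absurd (hα ((LinearMap.congr_fun (LinearMap.range_eq_bot.1 h) y).trans (map_zero α).symm)) hy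
    · refine ⟨(LinearEquiv.ofBijective α ⟨hα, LinearMap.range_eq_top.1 ?_⟩).symm⟩
      rw [← hC.sup_eq_top, h, sup_bot_eq]
  exact ⟨ι, ⟨(LinearEquiv.ofBijective (DirectSum.coeLinearMap N) hint).symm.trans
    ((DFinsupp.mapRange.linearEquiv fun i => (key i).some).trans (finsuppLequivDFinsupp A).symm)⟩⟩

end Decompose

section Levels

variable {A : Type u} [CommRing A] {d : ℕ} (x : Fin d → A)

/-- The levels of the socle filtration. -/
def Lev (M : Type u) [AddCommGroup M] [Module A M] : ℕ → Submodule A M
  | 0 => ⊥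
  | l + 1 => ⨅ j, (Lev M l).comap (LinearMap.lsmul A M (x j))

variable {x} {M : Type u} [AddCommGroup M] [Module A M]

theorem mem_Lev_succ {l : ℕ} {z : M} : z ∈ Lev x M (l + 1) ↔ ∀ j, x j • z ∈ Lev x M l := by
  simp [Lev, Submodule.mem_iInf]

theorem mem_Lev_one {z : M} : z ∈ Lev x M 1 ↔ ∀ j, x j • z = 0 := by
  rw [mem_Lev_succ]
  simp [Lev]

theorem Lev_le_succ : ∀ l, Lev x M l ≤ Lev x M (l + 1)
  | 0 => bot_le
  | l + 1 => fun _ hz => mem_Lev_succ.2 fun j => Lev_le_succ l (mem_Lev_succ.1 hz j)

theorem map_mem_Lev_iff {N : Type u} [AddCommGroup N] [Module A N] (f : M →ₗ[A] N) (hf : Function.Injective f) :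
    ∀ (l : ℕ) (z : M), f z ∈ Lev x N l ↔ z ∈ Lev x M l
  | 0, z => by simp [Lev, map_eq_zero_iff f hf]
  | l + 1, z => by simp only [mem_Lev_succ, ← map_smul, map_mem_Lev_iff f hf l]

theorem mem_Lev_of_forall : ∀ (k : ℕ) (z : M), (∀ a ∈ Ideal.span (Set.range x) ^ k, a • z = 0) → z ∈ Lev x M k
  | 0, z, h => by simpa [Lev] using h 1 (by rw [pow_zero, Ideal.one_eq_top]; trivial)
  | k + 1, z, h => mem_Lev_succ.2 fun j => mem_Lev_of_forall k _ fun a ha => by
      rw [smul_smul]
      exact h _ (by rw [pow_succ]; exact Ideal.mul_mem_mul ha (Ideal.subset_span ⟨j, rfl⟩))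

variable (D : Fin d → M →+ M) (hD : ∀ (i j : Fin d) (z : M), D i (x j • z) = (if i = j then (1 : A) else 0) • z + x j • D i z)

include hD in
/-- The Euler operator on the levels. -/
theorem euler_mem : ∀ (l : ℕ) (z : M), z ∈ Lev x M (l + 1) →
    ∑ j, x j • D j z + (d + l) • z ∈ Lev x M l := by
  intro l
  induction l with
  | zero =>
    intro z hz
    have h0 : ∀ j, x j • D j z = -z := fun j => by
      have := hD j j z
      rw [mem_Lev_one.1 hz j, map_zero, if_pos rfl, one_smul] at this
      exact eq_neg_of_add_eq_zero_right this.symm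
    simp [Lev, Finset.sum_congr rfl fun j _ => h0 j]
  | succ l ih =>
    intro z hz
    refine mem_Lev_succ.2 fun i => ?_
    have h1 : x i • (∑ j, x j • D j z + (d + (l + 1)) • z) = ∑ j, x j • D j (x i • z) + (d + l) • (x i • z) := by
      rw [smul_add, Finset.smul_sum]
      have : ∀ j, x i • x j • D j z = x j • D j (x i • z) - (if j = i then x i • z else 0) := fun j => by
        rw [hD j i z, smul_add, smul_smul, smul_smul, smul_smul, mul_comm (x i) (x j)]
        rcases eq_or_ne j i with rfl | h
        · simp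
        · simp [h]
      rw [Finset.sum_congr rfl fun j _ => this j, Finset.sum_sub_distrib, Finset.sum_ite_eq' Finset.univ i,
        if_pos (Finset.mem_univ i), ← add_assoc, succ_nsmul, smul_add, smul_comm (x i) (d + l) z]
      abel
    rw [h1]
    exact ih _ (mem_Lev_succ.1 hz i)

include hD in
theorem mem_range_of_mem_Lev {Ω : Type u} [AddCommGroup Ω] [Module A Ω] (ι : M →ₗ[A] Ω) (hι : Function.Injective ι)
    (hsoc : ∀ w ∈ Lev x Ω 1, w ∈ LinearMap.range ι) (hunit : ∀ l : ℕ, IsUnit ((l + 1 : ℕ) : A)) :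
    ∀ l, ∀ w ∈ Lev x Ω l, w ∈ LinearMap.range ι
  | 0 => fun w hw => by simp [Lev] at hw; exact hw ▸ zero_mem _
  | 1 => hsoc
  | l + 2 => fun w hw => by
    classical
    have hrec := mem_range_of_mem_Lev ι hι hsoc hunit (l + 1)
    choose m hm using fun j => hrec (x j • w) (mem_Lev_succ.1 hw j)
    have hmlev : ∀ j, m j ∈ Lev x M (l + 1) := fun j =>
      (map_mem_Lev_iff ι hι (l + 1) (m j)).1 (by rw [hm]; exact mem_Lev_succ.1 hw j)
    have hxm : ∀ i j, x i • m j = x j • m i := fun i j => hι (by rw [map_smul, map_smul, hm, hm, smul_comm])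
    obtain ⟨c, hc⟩ := (hunit l).exists_left_inv
    let s := ∑ j, D j (m j)
    have hw' : w + c • ι s ∈ Lev x Ω (l + 1) := by
      refine mem_Lev_succ.2 fun i => ?_
      have h1 : x i • s + (l + 1) • m i = ∑ j, x j • D j (m i) + (d + l) • m i := by
        simp only [s, Finset.smul_sum]
        have : ∀ j, x i • D j (m j) = x j • D j (m i) + m i - (if j = i then m i else 0) := fun j => by
          have h2 := hD j i (m j)
          rw [hxm i j, hD j j (m i), if_pos rfl, one_smul] at h2
          rcases eq_or_ne j i with rfl | h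
          · simp
          · rw [if_neg h, zero_smul, zero_add] at h2
            rw [← h2, if_neg h, sub_zero, add_comm]
        rw [Finset.sum_congr rfl fun j _ => this j, Finset.sum_sub_distrib, Finset.sum_add_distrib,
          Finset.sum_ite_eq' Finset.univ i, if_pos (Finset.mem_univ i), Finset.sum_const, Finset.card_univ,
          Fintype.card_fin, add_smul d l, succ_nsmul]
        abel
      have h3 : x i • (w + c • ι s) = c • ι (x i • s + (l + 1) • m i) := by
        rw [map_add, map_smul, smul_add, smul_add, ← Nat.cast_smul_eq_nsmul A, map_smul, hm, smul_smul c _ (x i • w),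
          hc, one_smul, smul_comm c (x i)]
        abel
      rw [h3]
      exact Submodule.smul_mem _ _ ((map_mem_Lev_iff ι hι l _).2 (h1 ▸ euler_mem D hD l _ (hmlev i)))
    obtain ⟨m', hm'⟩ := hrec _ hw'
    exact ⟨m' - c • s, by rw [map_sub, map_smul, hm']; abel⟩

end Levels

theorem exists_equiv (k : Type u) [Field k] [CharZero k] (d : ℕ) (E : Type u) [AddCommGroup E]
    [Module (MvPowerSeries (Fin d) k) E] (e : ResidueField (MvPowerSeries (Fin d) k) →ₗ[MvPowerSeries (Fin d) k] E)
    (he : IsInjectiveHull e) (M : Type u) [AddCommGroup M] [Module (MvPowerSeries (Fin d) k) M]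
    (hM : LocCoh.IsPowerTorsion (maximalIdeal (MvPowerSeries (Fin d) k)) M) (D : Fin d → M →+ M)
    (hD : ∀ (i j : Fin d) (z : M), D i ((MvPowerSeries.X j : MvPowerSeries (Fin d) k) • z) =
      (if i = j then (1 : MvPowerSeries (Fin d) k) else 0) • z + (MvPowerSeries.X j : MvPowerSeries (Fin d) k) • D i z) :
    ∃ J : Type u, Nonempty (M ≃ₗ[MvPowerSeries (Fin d) k] (J →₀ E)) := by
  let A := MvPowerSeries (Fin d) k
  have hmax : maximalIdeal A = Ideal.span (Set.range (MvPowerSeries.X : Fin d → A)) := by
    rw [Cohen.maximalIdeal_mvPowerSeries, IsLocalRing.maximalIdeal_eq_bot, Ideal.map_bot, bot_sup_eq]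
    rfl
  obtain ⟨Ω, _, _, ι, hι⟩ := exists_injective_hull A M
  have hsoc : ∀ w ∈ Lev (MvPowerSeries.X : Fin d → A) Ω 1, w ∈ LinearMap.range ι := fun w hw => by
    by_cases h0 : w = 0
    · exact h0 ▸ zero_mem _
    obtain ⟨r, m, hrm, hm0⟩ := hι.toIsEssentialInj.exists_smul h0
    have hkill : maximalIdeal A ≤ LinearMap.ker (LinearMap.toSpanSingleton A Ω w) := by
      rw [hmax, Ideal.span_le]
      rintro _ ⟨j, rfl⟩
      exact mem_Lev_one.1 hw j
    have hu : IsUnit r := by
      by_contra hr
      have : r • w = 0 := hkill ((IsLocalRing.mem_maximalIdeal r).2 hr)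
      exact hm0 (hι.toIsEssentialInj.injective (by rw [hrm, this, map_zero]))
    obtain ⟨v, rfl⟩ := hu
    exact ⟨(↑v⁻¹ : A) • m, by rw [map_smul, hrm, smul_smul, Units.inv_mul, one_smul]⟩
  have hunit : ∀ l : ℕ, IsUnit ((l + 1 : ℕ) : A) := fun l => by
    rw [MvPowerSeries.isUnit_iff_constantCoeff, map_natCast]
    exact (Nat.cast_ne_zero.2 (Nat.succ_ne_zero l)).isUnit
  have hall := mem_range_of_mem_Lev (x := (MvPowerSeries.X : Fin d → A)) D hD ι hι.toIsEssentialInj.injective hsoc hunit
  have heq : LinearMap.range ι = powTors (maximalIdeal A) Ω := by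
    refine le_antisymm ?_ fun w hw => ?_
    · rintro _ ⟨m, rfl⟩
      obtain ⟨n, hn⟩ := hM m
      exact mem_powTors_iff.2 ⟨n, fun a ha => by rw [← map_smul, hn a ha, map_zero]⟩
    · obtain ⟨n, hn⟩ := mem_powTors_iff.1 hw
      exact hall n w (mem_Lev_of_forall n w (hmax ▸ hn))
  have hinj : Module.Injective A M :=
    injective_of_linearEquiv ((LinearEquiv.ofEq _ _ heq.symm).trans (LinearEquiv.ofInjective ι hι.toIsEssentialInj.injective).symm)
      (injective_powTors (isInjectiveHull_injective hι) _)
  exact exists_finsupp_equiv E e he M hinj hM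

end Groth.Agent.DerivTors27
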